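/-
Sylow subgroups of the symmetric and alternating groups are generated by elements of order `p`.

* `GenExp`: generated by elements of exponent `p`; `pow_mem_commutator`
* `exists_sylow`: a Sylow subgroup of `S_n` with this property, and its even part for `p = 2`
-/
import Cfsg.Agent.EqLemmas
import Mathlib.GroupTheory.Sylow
import Mathlib.NumberTheory.Padics.PadicVal.Basic
import Mathlib.GroupTheory.SpecificGroups.Alternating

set_option autoImplicit false

namespace Cfsg.Agent.SymSylowGen

open Equiv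

/-- `H` is generated by elements `y` with `y ^ p = 1`. -/
def GenExp {G : Type*} [Group G] (p : ℕ) (H : Subgroup G) : Prop :=
  H ≤ Subgroup.closure {y | y ∈ H ∧ y ^ p = 1}

theorem GenExp.map {G G' : Type*} [Group G] [Group G'] {p : ℕ} {H : Subgroup G} (h : GenExp p H)
    (f : G →* G') : GenExp p (H.map f) := by
  refine (Subgroup.map_mono h).trans ?_
  rw [MonoidHom.map_closure]
  refine Subgroup.closure_mono ?_
  rintro _ ⟨y, ⟨hy, hy'⟩, rfl⟩
  exact ⟨Subgroup.mem_map_of_mem f hy, by rw [← map_pow, hy', map_one]⟩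

theorem GenExp.of_map {G G' : Type*} [Group G] [Group G'] {p : ℕ} {H : Subgroup G} {f : G →* G'}
    (hf : Function.Injective f) (h : GenExp p (H.map f)) : GenExp p H := by
  refine (Subgroup.map_le_map_iff_of_injective hf).mp (h.trans ?_)
  rw [MonoidHom.map_closure]
  refine Subgroup.closure_mono ?_
  rintro _ ⟨⟨y, hy, rfl⟩, hy'⟩
  exact ⟨y, ⟨hy, hf (by rw [map_pow, hy', map_one])⟩, rfl⟩

theorem pow_mem_commutator {G : Type*} [Group G] {p : ℕ} {H : Subgroup G} (h : GenExp p H) (x : H) :
    x ^ p ∈ commutator H := by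
  have htop : (⊤ : Subgroup H) ≤ Subgroup.closure {y : H | y ^ p = 1} := by
    refine (Subgroup.map_le_map_iff_of_injective H.subtype_injective).mp ?_
    rw [← MonoidHom.range_eq_map, Subgroup.range_subtype, MonoidHom.map_closure]
    refine h.trans (Subgroup.closure_mono ?_)
    rintro y ⟨hy, hy'⟩
    exact ⟨⟨y, hy⟩, Subtype.ext hy', rfl⟩
  let f : H →* Abelianization H := (powMonoidHom p).comp Abelianization.of
  have hker : Subgroup.closure {y : H | y ^ p = 1} ≤ f.ker := by
    rw [Subgroup.closure_le]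
    intro y hy
    show Abelianization.of y ^ p = 1
    rw [← map_pow, show y ^ p = 1 from hy, map_one]
  have h1 : Abelianization.of (x ^ p) = 1 := by
    rw [map_pow]
    exact hker (htop (Subgroup.mem_top x))
  exact (QuotientGroup.eq_one_iff _).mp h1

variable {m p : ℕ}

/-- Translations inside the blocks. -/
def baseMap (f : Fin m → ZMod p) : Perm (Fin m × ZMod p) :=
  Equiv.prodCongrRight fun i => Equiv.addRight (f i)

/-- Permutation of the blocks. -/
def topMap (w : Perm (Fin m)) : Perm (Fin m × ZMod p) := Equiv.prodCongrLeft fun _ => w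

theorem baseMap_apply (f : Fin m → ZMod p) (i : Fin m) (x : ZMod p) :
    baseMap f (i, x) = (i, x + f i) := rfl

theorem topMap_apply (w : Perm (Fin m)) (i : Fin m) (x : ZMod p) :
    topMap w (i, x) = (w i, x) := rfl

theorem topMap_mul (w v : Perm (Fin m)) : topMap (p := p) (w * v) = topMap w * topMap v :=
  Equiv.ext fun _ => rfl

/-- `topMap` as a homomorphism. -/
def topHom : Perm (Fin m) →* Perm (Fin m × ZMod p) := MonoidHom.mk' topMap topMap_mul

theorem baseMap_pow (f : Fin m → ZMod p) (k : ℕ) : baseMap f ^ k = baseMap (k • f) := by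
  induction k with
  | zero =>
    rw [pow_zero, zero_nsmul]
    exact Equiv.ext fun ⟨i, x⟩ => by simp [baseMap_apply]
  | succ k ih =>
    rw [pow_succ, ih, succ_nsmul]
    exact Equiv.ext fun ⟨i, x⟩ => by
      simp only [Perm.mul_apply, baseMap_apply, Pi.add_apply]
      ext <;> simp [add_assoc, add_comm, add_left_comm]

theorem wreath_mul (f g : Fin m → ZMod p) (w v : Perm (Fin m)) :
    (baseMap f * topMap w) * (baseMap g * topMap v) =
      baseMap (fun i => f i + g (w⁻¹ i)) * topMap (w * v) :=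
  Equiv.ext fun ⟨i, x⟩ => by
    simp only [Perm.mul_apply, baseMap_apply, topMap_apply]
    rw [← Perm.mul_apply w⁻¹ w, inv_mul_cancel, Perm.one_apply]
    ext <;> simp [add_assoc, add_comm, add_left_comm]

theorem baseMap_zero : baseMap (fun _ => (0 : ZMod p)) * topMap (1 : Perm (Fin m)) = 1 :=
  Equiv.ext fun ⟨i, x⟩ => by simp [baseMap_apply, topMap_apply]

/-- The wreath product `C_p ≀ W` on `Fin m × ZMod p`. -/
def wreathPerm (W : Subgroup (Perm (Fin m))) : Subgroup (Perm (Fin m × ZMod p)) where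
  carrier := {σ | ∃ f, ∃ w ∈ W, σ = baseMap f * topMap w}
  one_mem' := ⟨fun _ => 0, 1, W.one_mem, baseMap_zero.symm⟩
  mul_mem' := by
    rintro _ _ ⟨f, w, hw, rfl⟩ ⟨g, v, hv, rfl⟩
    exact ⟨_, w * v, W.mul_mem hw hv, wreath_mul f g w v⟩
  inv_mem' := by
    rintro _ ⟨f, w, hw, rfl⟩
    refine ⟨fun i => -f (w i), w⁻¹, W.inv_mem hw, inv_eq_of_mul_eq_one_left ?_⟩
    rw [wreath_mul, inv_mul_cancel]
    refine Eq.trans ?_ baseMap_zero
    congr 2
    funext i
    simp

theorem card_wreathPerm [NeZero p] (W : Subgroup (Perm (Fin m))) :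
    Nat.card (wreathPerm (p := p) W) = p ^ m * Nat.card W := by
  have h : Nat.card ((Fin m → ZMod p) × W) = p ^ m * Nat.card W := by
    rw [Nat.card_prod, Nat.card_fun, Nat.card_zmod, Nat.card_eq_fintype_card, Fintype.card_fin]
  rw [← h]
  refine (Nat.card_congr (Equiv.ofBijective
    (fun q : (Fin m → ZMod p) × W =>
      (⟨baseMap q.1 * topMap (q.2 : Perm (Fin m)), q.1, q.2, q.2.2, rfl⟩ : wreathPerm (p := p) W))
    ⟨fun q r h => ?_, fun ⟨_, f, w, hw, e⟩ => ⟨(f, ⟨w, hw⟩), Subtype.ext e.symm⟩⟩)).symm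
  have h0 : ∀ i, ((q.2 : Perm (Fin m)) i, (0 : ZMod p) + q.1 ((q.2 : Perm (Fin m)) i)) =
      ((r.2 : Perm (Fin m)) i, 0 + r.1 ((r.2 : Perm (Fin m)) i)) := fun i =>
    congrArg (fun σ : wreathPerm (p := p) W => (σ : Perm (Fin m × ZMod p)) (i, 0)) h
  have hw : (q.2 : Perm (Fin m)) = r.2 := Equiv.ext fun i => congrArg Prod.fst (h0 i)
  refine Prod.ext (funext fun j => ?_) (Subtype.ext hw)
  have h1 := congrArg Prod.snd (h0 ((q.2 : Perm (Fin m))⁻¹ j))
  simp only [zero_add, ← hw] at h1
  rwa [← Perm.mul_apply, mul_inv_cancel, Perm.one_apply] at h1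

/-- A Sylow subgroup of `S_n` generated by elements of exponent `p`; likewise its even part when
`p = 2`. -/
theorem exists_sylow (p : ℕ) [hp : Fact p.Prime] (n : ℕ) :
    ∃ W : Subgroup (Perm (Fin n)), Nat.card W = p ^ padicValNat p n.factorial ∧ GenExp p W ∧
      (p = 2 → GenExp p (W ⊓ alternatingGroup (Fin n))) := by
  classical
  induction n using Nat.strong_induction_on with
  | _ n ih =>
    rcases Nat.eq_zero_or_pos n with rfl | hn
    · refine ⟨⊥, ?_, bot_le, fun _ => ?_⟩
      · simp
      · rw [bot_inf_eq]; exact bot_le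
    obtain ⟨W, hW, hWg, hWeven⟩ := ih (n / p) (Nat.div_lt_self hn hp.out.one_lt)
    haveI : NeZero p := ⟨hp.out.ne_zero⟩
    obtain ⟨emb⟩ : Nonempty (Fin (n / p) × ZMod p ↪ Fin n) :=
      Function.Embedding.nonempty_of_card_le (by
        rw [Fintype.card_prod, Fintype.card_fin, ZMod.card, Fintype.card_fin]
        exact Nat.div_mul_le_self n p)
    let eR : Fin (n / p) × ZMod p ≃ {x // x ∈ Set.range emb} := Equiv.ofInjective emb emb.injective
    let E : Perm (Fin (n / p) × ZMod p) →* Perm (Fin n) := Perm.extendDomainHom eR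
    have hE : Function.Injective E := Perm.extendDomainHom_injective eR
    refine ⟨(wreathPerm W).map E, ?_, ?_, ?_⟩
    · rw [Subgroup.card_map_of_injective hE, card_wreathPerm, hW, ← pow_add]
      congr 1
      conv_rhs => rw [← Nat.div_add_mod n p, padicValNat_factorial_mul_add _ (Nat.mod_lt n hp.out.pos),
        padicValNat_factorial_mul]
      rw [add_comm]
    · refine GenExp.map ?_ E
      rintro _ ⟨f, w, hw, rfl⟩
      refine Subgroup.mul_mem _ (Subgroup.subset_closure ⟨⟨f, 1, W.one_mem, ?_⟩, ?_⟩) ?_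
      · rw [show topMap (1 : Perm (Fin (n / p))) = (1 : Perm (Fin (n / p) × ZMod p)) from rfl, mul_one]
      · rw [baseMap_pow]
        refine Eq.trans ?_ baseMap_zero
        rw [show topMap (1 : Perm (Fin (n / p))) = (1 : Perm (Fin (n / p) × ZMod p)) from rfl, mul_one]
        congr 1
        funext i
        simp
      · have h1 := Subgroup.mem_map_of_mem (topHom (p := p)) (hWg hw)
        rw [MonoidHom.map_closure] at h1
        refine Subgroup.closure_mono ?_ h1
        rintro _ ⟨y, ⟨hy, hy'⟩, rfl⟩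
        refine ⟨⟨fun _ => 0, y, hy, Equiv.ext fun ⟨i, x⟩ => ?_⟩, by rw [← map_pow, hy', map_one]⟩
        show topMap y (i, x) = baseMap (fun _ => 0) (topMap y (i, x))
        simp [topMap_apply, baseMap_apply]
    · intro h2
      subst h2
      have hsign : ∀ w : Perm (Fin (n / 2)), Perm.sign (E (topHom w)) = 1 := fun w => by
        show Perm.sign (Perm.extendDomain (topMap w) eR) = 1
        rw [Perm.sign_extendDomain, topMap, Perm.sign_prodCongrLeft, Finset.prod_const,
          Finset.card_univ, ZMod.card, Int.units_sq]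
      rintro x ⟨hx, hxA⟩
      obtain ⟨_, ⟨f, w, hw, rfl⟩, rfl⟩ := hx
      rw [map_mul] at hxA ⊢
      have hs : Perm.sign (E (baseMap f)) = 1 := by
        have h3 : Perm.sign (E (baseMap f) * E (topMap w)) = 1 := Perm.mem_alternatingGroup.mp hxA
        rwa [map_mul, show E (topMap w) = E (topHom w) from rfl, hsign, mul_one] at h3
      refine Subgroup.mul_mem _ (Subgroup.subset_closure
        ⟨⟨⟨baseMap f, ⟨f, 1, W.one_mem, ?_⟩, rfl⟩, Perm.mem_alternatingGroup.mpr hs⟩, ?_⟩) ?_
      · rw [show topMap (1 : Perm (Fin (n / 2))) = (1 : Perm (Fin (n / 2) × ZMod 2)) from rfl, mul_one]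
      · rw [← map_pow, baseMap_pow]
        refine Eq.trans (congrArg E ?_) (map_one E)
        refine Eq.trans ?_ baseMap_zero
        rw [show topMap (1 : Perm (Fin (n / 2))) = (1 : Perm (Fin (n / 2) × ZMod 2)) from rfl, mul_one]
        congr 1
        funext i
        simp only [Pi.smul_apply, nsmul_eq_mul, ZMod.natCast_self, zero_mul]
      · have h1 := Subgroup.mem_map_of_mem (E.comp topHom) (hWg hw)
        rw [MonoidHom.map_closure] at h1
        refine Subgroup.closure_mono ?_ h1
        rintro _ ⟨y, ⟨hy, hy'⟩, rfl⟩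
        refine ⟨⟨⟨topMap y, ⟨fun _ => 0, y, hy, Equiv.ext fun ⟨i, x⟩ => ?_⟩, rfl⟩,
          Perm.mem_alternatingGroup.mpr (hsign y)⟩, by rw [← map_pow, hy', map_one]⟩
        show topMap y (i, x) = baseMap (fun _ => 0) (topMap y (i, x))
        simp [topMap_apply, baseMap_apply]

end Cfsg.Agent.SymSylowGen
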